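import Cfsg.Agent.HN.Distinct
import Cfsg.Agent.H845.HNNineteen
import Cfsg.Agent.H845.HNSeven
import Cfsg.Agent.H904.HSIso
import Cfsg.Agent.H149.Sp.HNEleven
import Cfsg.Agent.H715.Fpr.Row4_m3
import Cfsg.Agent.H940.EngData
import Cfsg.Agent.CpAutHN.Second
import Cfsg.Agent.FastGrp
import Cfsg.Agent.Prune
set_option linter.all false

-- part: H438/Fpr/HNA
section
set_option linter.all false
open scoped Cfsg.Agent.FastGrp

/-!
# `HN`: `|C(x)| = 22`, `|N(⟨x⟩)| = 220` for `x` of order 11 (helper438)

All suborbits of `HN` on the cosets of `H = 2.HS.2` but the trivial one have length divisible by 11, so `N(⟨x⟩) ≤ H`.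
-/

set_option autoImplicit false

namespace Cfsg.Agent.H438.Fpr.HN

open Subgroup MulAction Cfsg.Agent.HN Cfsg.Agent.HN.Index Cfsg.Agent.HN.DCover Cfsg.Agent.HN.NormalH Cfsg.Agent.HN.DSem
  Cfsg.Agent.HN.Distinct

theorem sizes (i : Fin 9) (hi : i ≠ 0) : 11 ∣ Count.sz H (w9 i) := by
  have s0 : Count.sz H (w9 0) = 1 := by rw [w9_zero]; exact Count.sz_one H
  have s1 : Count.sz H (w9 0) * 1408 = Count.sz H (w9 1) * 1 := balance hdis 0 1
  have s2 : Count.sz H (w9 1) * 50 = Count.sz H (w9 2) * 32 := balance hdis 1 2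
  have s3 : Count.sz H (w9 1) * 450 = Count.sz H (w9 3) * 18 := balance hdis 1 3
  have s4 : Count.sz H (w9 1) * 350 = Count.sz H (w9 4) * 4 := balance hdis 1 4
  have s5 : Count.sz H (w9 1) * 504 = Count.sz H (w9 5) * 2 := balance hdis 1 5
  have s6 : Count.sz H (w9 2) * 672 = Count.sz H (w9 6) * 2 := balance hdis 2 6
  have s7 : Count.sz H (w9 6) * 10 = Count.sz H (w9 7) * 1280 := balance hdis 6 7
  have s8 : Count.sz H (w9 6) * 240 = Count.sz H (w9 8) * 640 := balance hdis 6 8
  fin_cases i
  · exact absurd rfl hi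
  · change 11 ∣ Count.sz H (w9 1); omega
  · change 11 ∣ Count.sz H (w9 2); omega
  · change 11 ∣ Count.sz H (w9 3); omega
  · change 11 ∣ Count.sz H (w9 4); omega
  · change 11 ∣ Count.sz H (w9 5); omega
  · change 11 ∣ Count.sz H (w9 6); omega
  · change 11 ∣ Count.sz H (w9 7); omega
  · change 11 ∣ Count.sz H (w9 8); omega

theorem normalizer_le {R : Subgroup Spor.HN} (hR : Nat.card R = 11) (hRH : R ≤ H) : normalizer (R : Set Spor.HN) ≤ H := by
  intro n hn
  obtain ⟨i, hi⟩ := covers n
  by_cases h0 : i = 0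
  · subst h0
    rw [w9_zero, DoubleCoset.mem_doubleCoset] at hi
    obtain ⟨a, ha, b, hb, e⟩ := hi
    rw [e, mul_one]
    exact mul_mem ha hb
  · exfalso
    have h1 := sizes i h0
    have hfH : Finite H := Nat.finite_of_card_ne_zero (by rw [Index.card_H]; norm_num)
    have h2 : Count.pnt H n ∈ orbit H (Count.pnt H (w9 i)) := (Count.mem_orbit_iff' H n (w9 i)).2 hi
    have h3 : orbit H (Count.pnt H n) = orbit H (Count.pnt H (w9 i)) := orbit_eq_iff.2 h2
    have h4 : 11 ∣ Nat.card (orbit H (Count.pnt H n)) := by rw [h3]; exact h1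
    have h5 : Nat.card (orbit H (Count.pnt H n)) * Nat.card (stabilizer H (Count.pnt H n)) = Nat.card H := by
      rw [Nat.card_congr (orbitEquivQuotientStabilizer H (Count.pnt H n)), mul_comm]
      exact card_mul_index _
    have h6 : 11 ∣ Nat.card (stabilizer H (Count.pnt H n)) := by
      have h7 : R.subgroupOf H ≤ stabilizer H (Count.pnt H n) := by
        intro r hr
        rw [mem_stabilizer_iff]
        change (((r : Spor.HN) * n⁻¹ : Spor.HN) : Spor.HN ⧸ H) = ((n⁻¹ : Spor.HN) : Spor.HN ⧸ H)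
        apply QuotientGroup.eq.2
        have h8 : ((r : Spor.HN) * n⁻¹)⁻¹ * n⁻¹ = n * (r : Spor.HN)⁻¹ * n⁻¹ := by group
        rw [h8]
        exact hRH ((mem_normalizer_iff.1 hn _).1 (inv_mem (mem_subgroupOf.1 hr)))
      rw [← hR, ← Nat.card_congr (subgroupOfEquivOfLe hRH).toEquiv]
      exact card_dvd_of_le h7
    have h7 := Nat.mul_dvd_mul h4 h6
    rw [h5, Index.card_H] at h7
    norm_num at h7

/-! ### numbers -/

open Cfsg.Agent.OrdDiv Cfsg.Agent.H940 Cfsg.Agent.H940.Eng Cfsg.Agent.H940.Eng.D Cfsg.Agent.H715.Fpr Cfsg.Agent.H409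

abbrev G : Type := Cfsg.Spor.HN

theorem card : Nat.card G = n_hn := Cfsg.Agent.H149.Sp.card_hn
instance fin : Finite G := Nat.finite_of_card_ne_zero (by rw [card]; decide)
instance simple : IsSimpleGroup G := Cfsg.Agent.H845.HNNineteen.inst

theorem na : ¬ ∀ a b : G, a * b = b * a := by
  intro h
  have h1 : H = ⊤ := by
    rw [eq_top_iff, ← Cfsg.Agent.KFacts.HN.Classes.centralizer_τ]
    intro x _
    rw [mem_centralizer_singleton_iff]
    exact h _ _
  have h2 := Index.card_H
  rw [h1, card_top, card] at h2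
  exact absurd h2 (by decide)

theorem not_sq {r : ℕ} (h : (n_hn % (r ^ 2) != 0) = true) : ¬ r ^ 2 ∣ Nat.card G := by
  rw [card]
  intro h'
  rw [Nat.dvd_iff_mod_eq_zero] at h'
  rw [h'] at h
  exact absurd h (by decide)

theorem cent_of_order {r : ℕ} (hr : r.Prime) (h2 : ¬ r ^ 2 ∣ Nat.card G) {x y : G} (hx : orderOf x = r) (hy : orderOf y = r) :
    Nat.card (centralizer ({x} : Set G)) = Nat.card (centralizer ({y} : Set G)) := by
  have := Fact.mk hr
  rw [← cent_zpowers' x, ← cent_zpowers' y]
  exact H904.SylOne.card_centralizer_eq (by rw [Nat.card_zpowers, hx]) (by rw [Nat.card_zpowers, hy]) h2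

/-! ### the prime 11 -/

theorem hs_eleven {L : Type*} [Group L] (h : Spor.IsoHS L) {y : L} (hy : orderOf y = 11) :
    Nat.card (centralizer ({y} : Set L)) = 11 := by
  obtain ⟨-, -, H⟩ := H904.TwoHS.eleven h
  rw [← cent_zpowers']
  exact (H (zpowers y) (by rw [Nat.card_zpowers, hy])).1

theorem card_dvd_H {x : H} (hx : orderOf x = 11) : Nat.card (centralizer ({x} : Set H)) ∣ 44 := by
  obtain ⟨K, -, hK, hZ, ⟨e⟩, -⟩ := exists_double_cover_H Cfsg.Agent.HN.Upper.card_H0_le.1
    Cfsg.Agent.HN.Upper.card_H0_le.2 Cfsg.Agent.HN.XSq.hx_sq_ne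
  have hf : Finite Spor.HS := by
    obtain ⟨D⟩ := Cfsg.Agent.KFacts.HS.exists_mod (L := Spor.HS) ⟨MulEquiv.refl _⟩
    exact D.finite
  exact Cfsg.Agent.H845.HNSevenA.card_dvd (n := 11) (by norm_num) (by norm_num) K hK hZ e
    (fun y hy => hs_eleven ⟨MulEquiv.refl _⟩ hy) hx

theorem cent11 {x : G} (hx : orderOf x = 11) : Nat.card (centralizer ({x} : Set G)) ∣ 22 := by
  have := Fact.mk (by norm_num : Nat.Prime 11)
  obtain ⟨y, hy⟩ := exists_prime_orderOf_dvd_card' (G := H) 11 (by rw [Index.card_H]; norm_num)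
  have hy' : orderOf (y : G) = 11 := by rw [Subgroup.orderOf_coe, hy]
  rw [cent_of_order (by norm_num) (not_sq (r := 11) (by decide +kernel)) hx hy']
  have h1 : centralizer ({(y : G)} : Set G) ≤ H := by
    rw [← cent_zpowers']
    exact (Subgroup.centralizer_le_normalizer _).trans (normalizer_le (by rw [Nat.card_zpowers, hy'])
      (zpowers_le.2 y.2))
  have h2 : Nat.card (centralizer ({(y : G)} : Set G)) ∣ 44 := by
    refine dvd_trans ?_ (card_dvd_H hy)
    have h3 : centralizer ({(y : G)} : Set G) ≤ (centralizer ({y} : Set H)).map H.subtype := by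
      intro z hz
      refine ⟨⟨z, h1 hz⟩, mem_centralizer_singleton_iff.2 (Subtype.ext (mem_centralizer_singleton_iff.1 hz)), rfl⟩
    rw [← card_map_of_injective (K := centralizer ({y} : Set H)) H.subtype_injective]
    exact card_dvd_of_le h3
  have h4 := Cfsg.Agent.H149.Sp.hn_cent_eleven (y : G) hy'
  generalize Nat.card (centralizer ({(y : G)} : Set G)) = c at h2 h4
  have h5 : c ≤ 44 := Nat.le_of_dvd (by norm_num) h2
  interval_cases c <;> first | decide | (exfalso; revert h2; decide) | (exfalso; revert h4; decide)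

theorem cn11 {R : Subgroup G} (hR : Nat.card R = 11) : Nat.card (centralizer (R : Set G)) = 22 ∧
    Nat.card (normalizer (R : Set G)) = 220 := by
  have h0 : Nat.card (centralizer (R : Set G)) ∣ 22 := by
    obtain ⟨w, hw, rfl⟩ := eq_zpowers' (by norm_num) hR
    rw [cent_zpowers']
    exact cent11 hw
  have h1 := cnP_sound na card (r := 11) (fC := [(2, 1), (11, 1)]) (by decide +kernel) (by decide +kernel)
    (by decide +kernel) hR (h0.trans (by decide +kernel)) (P := fun c m => c == 22 && m == 220) (by decide +kernel) hR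
  simpa using h1

/-! ### the primes 7 and 19 -/

theorem cn7 {R : Subgroup G} (hR : Nat.card R = 7) : Nat.card (centralizer (R : Set G)) = 420 ∧
    Nat.card (normalizer (R : Set G)) = 2520 := by
  have h0 : Nat.card (centralizer (R : Set G)) = 420 := by
    obtain ⟨w, hw, rfl⟩ := eq_zpowers' (by norm_num) hR
    rw [cent_zpowers', cent_of_order (by norm_num) (not_sq (r := 7) (by decide +kernel)) hw Cfsg.Agent.H845.HNSeven.order_X7]
    exact Cfsg.Agent.H845.HNSeven.card_cent
  have h1 := cnP_sound na card (r := 7) (fC := [(2, 2), (3, 1), (5, 1), (7, 1)]) (by decide +kernel) (by decide +kernel)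
    (by decide +kernel) hR (by rw [h0]; decide +kernel) (P := fun c m => c != 420 || m == 2520) (by decide +kernel) hR
  rw [h0] at h1
  simp only [bne_self_eq_false, Bool.false_or, beq_iff_eq] at h1
  exact ⟨h0, h1⟩

theorem cn19 {R : Subgroup G} (hR : Nat.card R = 19) : Nat.card (centralizer (R : Set G)) = 19 ∧
    Nat.card (normalizer (R : Set G)) = 171 := by
  have h0 : Nat.card (centralizer (R : Set G)) = 19 := by
    obtain ⟨w, hw, rfl⟩ := eq_zpowers' (by norm_num) hR
    obtain ⟨x, hx, hc⟩ := Cfsg.Agent.H845.HNNineteen.hn_nineteen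
    rw [cent_zpowers', cent_of_order (by norm_num) (not_sq (r := 19) (by decide +kernel)) hw hx]
    exact hc
  have h1 := cnP_sound na card (r := 19) (fC := [(19, 1)]) (by decide +kernel) (by decide +kernel)
    (by decide +kernel) hR (by rw [h0]; decide +kernel) (P := fun c m => c != 19 || m == 171) (by decide +kernel) hR
  rw [h0] at h1
  simp only [bne_self_eq_false, Bool.false_or, beq_iff_eq] at h1
  exact ⟨h0, h1⟩

end Cfsg.Agent.H438.Fpr.HN
end

-- part: H438/Fpr/HNB
section
set_option linter.all false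
open scoped Cfsg.Agent.FastGrp

/-!
# Fixed point ratios: `HN`, primes 2, 3, 5, 11, 19 (helper438)
-/

set_option autoImplicit false

namespace Cfsg.Agent.H438.Fpr.HN

open Subgroup Cfsg.Agent.H409 Cfsg.Agent.OrdDiv Cfsg.Agent.H940 Cfsg.Agent.H940.Eng Cfsg.Agent.H940.Eng.D Cfsg.Agent.H715.Fpr

/-- the local data -/
def loc : List LD := [⟨19, 19, [(3, 2), (19, 1)]⟩, ⟨7, 420, [(2, 3), (3, 2), (5, 1), (7, 1)]⟩,
  ⟨11, 22, [(2, 2), (5, 1), (11, 1)]⟩]

theorem ctx (B : Base) : Ctx G l_hn n_hn o_hn loc where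
  fin := fin
  simple := simple
  card := card
  val := v_hn
  nodup := nd_hn
  ords := ords_hn B
  loc := by
    intro ld hld
    simp only [loc, List.mem_cons, List.not_mem_nil, or_false] at hld
    rcases hld with rfl | rfl | rfl
    · exact loc_of_eq card (by decide +kernel) (by decide +kernel) (by decide +kernel) fun R hR => by
        obtain ⟨h1, h2⟩ := cn19 hR
        rw [h1, h2]; decide
    · exact loc_of_eq card (by decide +kernel) (by decide +kernel) (by decide +kernel) fun R hR => by
        obtain ⟨h1, h2⟩ := cn7 hR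
        rw [h1, h2]; decide
    · exact loc_of_eq card (by decide +kernel) (by decide +kernel) (by decide +kernel) fun R hR => by
        obtain ⟨h1, h2⟩ := cn11 hR
        rw [h1, h2]; decide

theorem row2 (B : Base) : FprRow 3 1 2 G :=
  row_of_act2 (ctx B) (q := 11) (N := 220) (by decide +kernel) (by decide +kernel) (by decide +kernel)
    (acts_of card (by decide +kernel) (by decide +kernel) (by decide +kernel) (fun _ hR => cn11 hR) 2
      (by decide +kernel))
    (fun _ hR => (cn11 hR).2.le) 75 0 lb_zero 0 (by exact Cfsg.Agent.H715.Fpr.scheck_fast (by decide +kernel))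

theorem row3 (B : Base) : FprRow 4 1 3 G :=
  row_of_act2 (ctx B) (q := 19) (N := 171) (by decide +kernel) (by decide +kernel) (by decide +kernel)
    (acts_of card (by decide +kernel) (by decide +kernel) (by decide +kernel) (fun _ hR => cn19 hR) 1
      (by decide +kernel))
    (fun _ hR => (cn19 hR).2.le) 44 0 lb_zero 0 (by decide +kernel)

theorem row5 (B : Base) : FprRow 6 1 5 G :=
  row_of_act3 (ctx B) (q := 11) (N := 220) (by decide +kernel) (by decide +kernel) (by decide +kernel)
    (acts_of card (by decide +kernel) (by decide +kernel) (by decide +kernel) (fun _ hR => cn11 hR) 1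
      (by decide +kernel))
    (fun _ hR => (cn11 hR).2) 240 0 lb_zero [133, 209] 0 (by decide +kernel) (by exact Cfsg.Agent.H715.Fpr.scheck_fast (by decide +kernel))

theorem row11 (B : Base) : FprRow 12 1 11 G :=
  row_of_norm3 (ctx B) (by decide +kernel) (by decide +kernel) (by decide +kernel) (fun _ hR => (cn11 hR).2)
    240 0 lb_zero [133, 209] 0 (by decide +kernel) (by exact Cfsg.Agent.H715.Fpr.scheck_fast (by decide +kernel))

theorem row19 (B : Base) : FprRow 20 1 19 G :=
  row_of_norm3 (ctx B) (by decide +kernel) (by decide +kernel) (by decide +kernel) (fun _ hR => (cn19 hR).2)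
    180 0 lb_zero [133] 0 (by decide +kernel) (by decide +kernel)

end Cfsg.Agent.H438.Fpr.HN

private theorem dce_8b203e511815 : _root_.True := by
  try have : _root_.True := by simp only [_root_.Cfsg.Agent.H438.Fpr.HN.loc.eq_1]
  exact _root_.True.intro
end

-- part: H438/Fpr/StructQ_mg
section
prune_inst 0x7f00000000000000000000000000000000000000000000000000000000000000000000000000000000000000000000000000000000000000000000000000000000000000000000000000000000000000003fffffffffffffffffffffffffffbeffbdffffffff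
set_option linter.all false
open scoped Cfsg.Agent.FastGrp

-- part: H438/Fpr/StructQ
section
/-!
# The structure of a finite group at a prime dividing its order once, with an invariant Sylow subgroup (helper438)

`structQ` : the theorem `struct` of helper940 with, for every prime `p`, a `p`-subgroup of order the `p`-part of `k` normalized by `R`.
The proof is the one of `H940/Struct.lean`.
-/

set_option autoImplicit false

namespace Cfsg.Agent.H438.Fpr.StructQ

open Subgroup Cfsg.Agent.H940 Cfsg.Agent.H940.Eng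

universe u

/-- **the structure at a prime dividing the order once** -/
theorem structQ {X : Type u} [Group X] [Finite X] {r : ℕ} (hr : r.Prime) (h2 : ¬ r ^ 2 ∣ Nat.card X)
    (R : Subgroup X) (hR : Nat.card R = r) :
    ∃ k c s ν t : ℕ, Nat.card X = k * s * t ∧ Nat.card (normalizer (R : Set X)) = c * ν * t ∧
      c ∣ Nat.card (centralizer (R : Set X)) ∧ c ∣ k ∧ ¬ r ∣ k ∧ r ∣ ν ∧ ν ∣ s ∧ s / ν ≡ 1 [MOD r] ∧
      (∀ p : ℕ, p.Prime → ∃ j : ℕ, p ^ j ∣ c ∧ p ^ (k.factorization p) ≡ p ^ j [MOD r] ∧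
        ∃ Q : Subgroup X, Nat.card Q = p ^ (k.factorization p) ∧ R ≤ normalizer (Q : Set X)) ∧
      (s = r ∨ ∃ (S : Type u) (_ : Group S) (_ : Finite S), IsSimpleGroup S ∧ (¬ ∀ a b : S, a * b = b * a) ∧
        Nat.card S = s) := by
  have := Fact.mk hr
  obtain ⟨K, ⟨hKn, hrK⟩, hKmax⟩ := exists_card_max (P := fun T : Subgroup X => T.Normal ∧ ¬ r ∣ Nat.card T)
    ⟨⊥, inferInstance, by rw [card_bot]; exact hr.one_lt.ne' ∘ Nat.dvd_one.1⟩
  let f : X →* X ⧸ K := QuotientGroup.mk' K
  have hf : Function.Surjective f := QuotientGroup.mk'_surjective K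
  have hker : f.ker = K := QuotientGroup.ker_mk' K
  have hRK : R ⊓ K = ⊥ := by
    have h3 : Nat.card ↥(R ⊓ K) ∣ r := hR ▸ card_dvd_of_le inf_le_left
    rcases (Nat.dvd_prime hr).1 h3 with h4 | h4
    · exact card_eq_one.1 h4
    · exact absurd (h4 ▸ card_dvd_of_le (inf_le_right : R ⊓ K ≤ K)) hrK
  have hmapcard : ∀ A : Subgroup X, Nat.card ↥(A.map f) * Nat.card ↥(A ⊓ K) = Nat.card A := by
    intro A
    have h3 := card_mul_index (f.comp A.subtype).ker
    rw [index_ker] at h3
    have h4 : Nat.card (f.comp A.subtype).ker = Nat.card ↥(A ⊓ K) := by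
      have h5 : (f.comp A.subtype).ker.map A.subtype = A ⊓ K := by
        ext x
        rw [mem_map, mem_inf]
        constructor
        · rintro ⟨a, ha, rfl⟩
          refine ⟨a.2, ?_⟩
          rw [← hker, MonoidHom.mem_ker]
          exact ha
        · rintro ⟨hxA, hxK⟩
          refine ⟨⟨x, hxA⟩, ?_, rfl⟩
          rw [← hker, MonoidHom.mem_ker] at hxK
          exact hxK
      rw [← h5, card_map_of_injective A.subtype_injective]
    have h6 : (f.comp A.subtype).range = A.map f := by
      ext y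
      constructor
      · rintro ⟨a, rfl⟩
        exact ⟨a, a.2, rfl⟩
      · rintro ⟨a, ha, rfl⟩
        exact ⟨⟨a, ha⟩, rfl⟩
    rw [h4, h6, mul_comm] at h3
    exact h3
  have hXY : Nat.card X = Nat.card K * Nat.card (X ⧸ K) := by
    rw [← index_eq_card, card_mul_index]
  have hRbar : Nat.card ↥(R.map f) = r := by
    have := hmapcard R
    rwa [hRK, card_bot, mul_one, hR] at this
  have hY2 : ¬ r ^ 2 ∣ Nat.card (X ⧸ K) := fun h => h2 (hXY ▸ (h.trans (dvd_mul_left _ _)))
  have hno : ∀ N : Subgroup (X ⧸ K), N.Normal → ¬ r ∣ Nat.card N → N = ⊥ := by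
    intro N hN hrN
    have h3 : Nat.card ↥(N.comap f) = Nat.card K * Nat.card N := MaxCls.card_comap_quot K N
    have h4 := hKmax (N.comap f) ⟨hN.comap f, by
      rw [h3]
      intro h
      rcases hr.dvd_mul.1 h with h5 | h5
      · exact hrK h5
      · exact hrN h5⟩
    rw [h3] at h4
    have h5 : 0 < Nat.card K := Nat.card_pos
    have h6 : 0 < Nat.card N := Nat.card_pos
    have h7 : Nat.card N ≤ 1 := by
      by_contra hlt
      push Not at hlt
      nlinarith only [h4, h5, hlt]
    exact card_eq_one.1 (le_antisymm h7 h6)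
  obtain ⟨s, ν, t, e1, e2, e3, e4, e5, e6⟩ := struct_top hr hY2 hno (R.map f) hRbar
  set N := normalizer (R : Set X) with hN
  -- the normalizer in the quotient
  have hNbar : normalizer ((R.map f : Subgroup (X ⧸ K)) : Set (X ⧸ K)) = N.map f := by
    apply le_antisymm
    · intro y hy
      obtain ⟨x, rfl⟩ := hf y
      rw [← conj_eq_iff] at hy
      set R' := R.map (MulAut.conj x).toMonoidHom with hR'
      have hR'c : Nat.card R' = r := by rw [hR', card_map_of_injective (MulAut.conj x).injective, hR]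
      -- `R'` and `R` are Sylow subgroups of `L = K R`
      have hR'f : R'.map f = R.map f := by
        rw [← hy, hR', map_map, map_map]
        congr 1
      set L := K ⊔ R with hL
      have hRL : R ≤ L := le_sup_right
      have hR'L : R' ≤ L := by
        intro z hz
        have h3 : f z ∈ R.map f := by rw [← hR'f]; exact ⟨z, hz, rfl⟩
        obtain ⟨w, hw, hw'⟩ := h3
        have h4 : z * w⁻¹ ∈ K := by
          rw [← hker, MonoidHom.mem_ker, map_mul, map_inv, hw', mul_inv_cancel]
        have h5 : z = (z * w⁻¹) * w := by group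
        rw [h5]
        exact mul_mem (mem_sup_left h4) (mem_sup_right hw)
      have hL2 : ¬ r ^ 2 ∣ Nat.card L := fun h => h2 (h.trans (card_subgroup_dvd_card _))
      have hRLc : Nat.card (R'.subgroupOf L) = r := by
        rw [Nat.card_congr (subgroupOfEquivOfLe hR'L).toEquiv, hR'c]
      have hRLc2 : Nat.card (R.subgroupOf L) = r := by
        rw [Nat.card_congr (subgroupOfEquivOfLe hRL).toEquiv, hR]
      obtain ⟨l, hl⟩ := exists_conj_le hr hL2 hRLc (L := R.subgroupOf L) (by rw [hRLc2])
      have hl' : R'.map (MulAut.conj (l : X)).toMonoidHom = R := by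
        apply eq_of_le_of_card_ge
        · rintro _ ⟨z, hz, rfl⟩
          exact hl ⟨⟨z, hR'L hz⟩, hz, rfl⟩
        · rw [card_map_of_injective (MulAut.conj (l : X)).injective, hR'c, hR]
      have hlx : (l : X) * x ∈ N := by
        rw [hN, ← conj_eq_iff]
        have h7 : R.map (MulAut.conj ((l : X) * x)).toMonoidHom =
            (R.map (MulAut.conj x).toMonoidHom).map (MulAut.conj (l : X)).toMonoidHom := by
          rw [map_map]
          congr 1
          ext z
          simp
        rw [h7]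
        exact hl'
      have hlf : f (l : X) ∈ N.map f := by
        have hlL : (l : X) ∈ K ⊔ R := l.2
        rw [mem_sup_of_normal_left] at hlL
        obtain ⟨a, ha, b, hb, hab⟩ := hlL
        refine ⟨b, le_normalizer hb, ?_⟩
        rw [← hab, map_mul]
        have : f a = 1 := by rw [← MonoidHom.mem_ker, hker]; exact ha
        rw [this, one_mul]
      have h8 : f x = (f (l : X))⁻¹ * f ((l : X) * x) := by rw [map_mul]; group
      rw [h8]
      exact mul_mem (inv_mem hlf) ⟨_, hlx, rfl⟩
    · rintro _ ⟨x, hx, rfl⟩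
      rw [← conj_eq_iff]
      have h3 : R.map (MulAut.conj x).toMonoidHom = R := conj_eq_iff.2 hx
      conv_rhs => rw [← h3]
      rw [map_map, map_map]
      congr 1
  have hNc : Nat.card N = Nat.card ↥(N ⊓ K) * ν * t := by
    rw [← hmapcard N, ← hNbar, e2]
    ring
  refine ⟨Nat.card K, Nat.card ↥(N ⊓ K), s, ν, t, by rw [hXY, e1, mul_assoc], hNc, ?_,
    card_dvd_of_le inf_le_right, hrK, e3, e4, e5, ?_, e6⟩
  · apply card_dvd_of_le
    intro x hx
    have hxN : x ∈ N := (mem_inf.1 hx).1
    have hxK : x ∈ K := (mem_inf.1 hx).2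
    rw [mem_centralizer_iff]
    intro a ha
    have h3 : x * a * x⁻¹ * a⁻¹ ∈ R ⊓ K := by
      refine mem_inf.2 ⟨mul_mem ((mem_normalizer_iff.1 hxN a).1 ha) (inv_mem (show a ∈ R from ha)), ?_⟩
      have h4 : a * x⁻¹ * a⁻¹ ∈ K := hKn.conj_mem _ (inv_mem hxK) a
      have h5 : x * a * x⁻¹ * a⁻¹ = x * (a * x⁻¹ * a⁻¹) := by group
      rw [h5]
      exact mul_mem hxK h4
    rw [hRK, mem_bot] at h3
    have h6 : x * a = a * x := by
      have := congrArg (· * a * x) h3
      simpa only [mul_assoc, _root_.inv_mul_cancel, _root_.mul_one, _root_.one_mul] using this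
    exact h6.symm
  · intro p hp
    have := Fact.mk hp
    by_cases hpr : p = r
    · subst hpr
      refine ⟨0, by simp only [_root_.pow_zero, _root_.Subgroup.mem_inf, _root_.isUnit_iff_eq_one, _root_.IsUnit.dvd], ?_, ⊥, ?_, ?_⟩
      · rw [Nat.factorization_eq_zero_of_not_dvd hrK]
      · rw [Nat.factorization_eq_zero_of_not_dvd hrK, card_bot, pow_zero]
      · intro a _
        rw [mem_normalizer_iff]
        intro z
        rw [mem_bot, mem_bot, mul_inv_eq_one, mul_eq_left]
    · -- an `R`-invariant Sylow `p`-subgroup of `K`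
      let Q0 : Sylow p K := default
      set Q0' : Subgroup X := (Q0 : Subgroup K).map K.subtype with hQ0'
      have hQ0K : Q0' ≤ K := map_subtype_le _
      have hfr : normalizer (Q0' : Set X) ⊔ K = ⊤ := Sylow.normalizer_sup_eq_top Q0
      have hrN : r ∣ Nat.card (normalizer (Q0' : Set X)) := by
        have h3 := card_sup_mul_card_inf K (normalizer (Q0' : Set X))
        rw [sup_comm, hfr, card_top] at h3
        have h4 : r ∣ Nat.card K * Nat.card (normalizer (Q0' : Set X)) := by
          rw [← h3]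
          exact Dvd.dvd.mul_right (hR ▸ card_subgroup_dvd_card R) _
        exact (hr.dvd_mul.1 h4).resolve_left hrK
      obtain ⟨g, hg⟩ := exists_conj_le hr h2 hR hrN
      -- `Q = Q0' conjugated by g⁻¹` is normalized by `R`
      set Q : Subgroup X := Q0'.map (MulAut.conj g⁻¹).toMonoidHom with hQ
      have hQK : Q ≤ K := by
        rintro _ ⟨z, hz, rfl⟩
        exact hKn.conj_mem _ (hQ0K hz) g⁻¹
      have hRQ : R ≤ normalizer (Q : Set X) := by
        intro a ha
        have h3 : g * a * g⁻¹ ∈ normalizer (Q0' : Set X) := hg ⟨a, ha, rfl⟩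
        rw [← conj_eq_iff] at h3 ⊢
        rw [hQ, map_map]
        conv_rhs => rw [← h3, map_map]
        congr 1
        ext z
        simp [mul_assoc]
      have hQc : Nat.card Q = p ^ ((Nat.card K).factorization p) := by
        rw [hQ, card_map_of_injective (MulAut.conj g⁻¹).injective, hQ0', card_map_of_injective K.subtype_injective]
        exact Q0.card_eq_multiplicity
      -- the action of `R` on `Q`
      let _ : MulAction R Q := {
        smul := fun a z => ⟨(a : X) * z * (a : X)⁻¹, (mem_normalizer_iff.1 (hRQ a.2) z).1 z.2⟩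
        one_smul := fun z => Subtype.ext (by show (1 : X) * z * (1 : X)⁻¹ = z; simp)
        mul_smul := fun a b z => Subtype.ext (by
          show ((a : X) * b) * z * ((a : X) * b)⁻¹ = a * (b * z * (b : X)⁻¹) * (a : X)⁻¹
          group) }
      have hsm : ∀ (a : R) (z : Q), ((a • z : Q) : X) = (a : X) * z * (a : X)⁻¹ := fun _ _ => rfl
      have hRp : IsPGroup r R := IsPGroup.of_card (n := 1) (by rw [hR, pow_one])
      have hmod : Nat.card Q ≡ Nat.card (MulAction.fixedPoints R Q) [MOD r] := hRp.card_modEq_card_fixedPoints Q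
      -- the fixed points
      set D : Subgroup X := Q ⊓ centralizer (R : Set X) with hD
      have hDc : Nat.card (MulAction.fixedPoints R Q) = Nat.card D := by
        refine Nat.card_congr ?_
        refine ⟨fun z => ⟨((z : Q) : X), mem_inf.2 ⟨(z : Q).2, ?_⟩⟩, fun z => ⟨⟨(z : X), (mem_inf.1 z.2).1⟩, ?_⟩, fun z => rfl, fun z => rfl⟩
        · show ((z : Q) : X) ∈ centralizer (R : Set X)
          rw [mem_centralizer_iff]
          intro a ha
          have h3 := congrArg Subtype.val (z.2 ⟨a, ha⟩)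
          rw [hsm] at h3
          have h4 : a * ((z : Q) : X) * a⁻¹ = ((z : Q) : X) := h3
          calc a * ((z : Q) : X) = a * ((z : Q) : X) * a⁻¹ * a := by group
            _ = ((z : Q) : X) * a := by rw [h4]
        · intro a
          apply Subtype.ext
          rw [hsm]
          have h3 := (mem_centralizer_iff.1 (mem_inf.1 z.2).2) (a : X) a.2
          show (a : X) * (z : X) * (a : X)⁻¹ = z
          rw [h3]
          group
      have hDp : IsPGroup p D := by
        have h3 : IsPGroup p Q := IsPGroup.of_card hQc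
        exact h3.to_le inf_le_left
      obtain ⟨j, hj⟩ := IsPGroup.iff_card.1 hDp
      refine ⟨j, ?_, ?_, Q, hQc, hRQ⟩
      · rw [← hj]
        apply card_dvd_of_le
        intro z hz
        have hzQ : z ∈ Q := (mem_inf.1 hz).1
        have hzC : z ∈ centralizer (R : Set X) := (mem_inf.1 hz).2
        refine mem_inf.2 ⟨?_, hQK hzQ⟩
        rw [hN, mem_normalizer_iff]
        intro a
        have h3 : ∀ b ∈ R, z * b * z⁻¹ = b := by
          intro b hb
          rw [← (mem_centralizer_iff.1 hzC) b hb]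
          group
        constructor
        · intro ha
          rw [h3 a ha]
          exact ha
        · intro ha
          have h4 := h3 _ ha
          have h5 : z * a * z⁻¹ = a := by
            have h6 : z * (z * a * z⁻¹) * z⁻¹ = z * a * z⁻¹ := h4
            have h7 : z⁻¹ * (z * (z * a * z⁻¹) * z⁻¹) * z = z⁻¹ * (z * a * z⁻¹) * z := by rw [h6]
            have h8 : z⁻¹ * (z * (z * a * z⁻¹) * z⁻¹) * z = z * a * z⁻¹ := by group
            have h9 : z⁻¹ * (z * a * z⁻¹) * z = a := by group
            rw [h8, h9] at h7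
            exact h7
          rw [← h5]
          exact ha
      · rw [← hQc, ← hj, ← hDc]
        exact hmod

end Cfsg.Agent.H438.Fpr.StructQ
end

-- part: H438/Fpr/FixN
section
/-!
# The number of fixed points of an element of prime order `p`, `p² ∤ |S|` (helper438)

After `H715/Fpr/Row3.lean` of helper715.
-/

set_option autoImplicit false

namespace Cfsg.Agent.H438.Fpr.FixN

open Subgroup MulAction Cfsg.Agent.H409 Cfsg.Agent.H940.Eng Cfsg.Agent.OrdDiv

universe u

variable {S : Type u} [Group S] [Finite S]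

/-- `fix(x) |N_H(⟨x⟩)| = |N(⟨x⟩)|` -/
theorem fix_mul {p : ℕ} (hp : p.Prime) (h2 : ¬ p ^ 2 ∣ Nat.card S) {H : Subgroup S} {x : S}
    (hxH : x ∈ H) (hxo : orderOf x = p) :
    Nat.card (fixedBy (S ⧸ H) x) * Nat.card ↥(normalizer ((zpowers x : Subgroup S) : Set S) ⊓ H) =
      Nat.card (normalizer ((zpowers x : Subgroup S) : Set S)) := by
  have hfp := Fact.mk hp
  set R : Subgroup S := zpowers x with hR
  have hRc : Nat.card R = p := by rw [hR, Nat.card_zpowers, hxo]
  have hRH : R ≤ H := zpowers_le.2 hxH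
  set M := normalizer (R : Set S) with hM
  have hH2 : ¬ p ^ 2 ∣ Nat.card H := fun h => h2 (h.trans (card_subgroup_dvd_card H))
  have hfix : fixedBy (S ⧸ H) x ⊆ orbit M ((1 : S) : S ⧸ H) := by
    intro w hw
    obtain ⟨g, rfl⟩ := QuotientGroup.mk_surjective w
    have h3 : ((x * g : S) : S ⧸ H) = (g : S) := hw
    have h4 := QuotientGroup.eq.1 h3.symm
    rw [← mul_assoc] at h4
    set R' : Subgroup S := zpowers (g⁻¹ * x * g) with hR'
    have hR'c : Nat.card R' = p := by
      rw [hR', Nat.card_zpowers]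
      have h5 : g⁻¹ * x * g = MulAut.conj g⁻¹ x := by simp only [_root_.map_inv, _root_.MulAut.inv_apply, _root_.MulAut.conj_symm_apply]
      rw [h5, MulEquiv.orderOf_eq, hxo]
    have hR'H : R' ≤ H := zpowers_le.2 h4
    obtain ⟨h, hh⟩ := exists_conj_le (X := H) hp hH2 (R := R.subgroupOf H)
      (by rw [Nat.card_congr (subgroupOfEquivOfLe hRH).toEquiv, hRc]) (L := R'.subgroupOf H)
      (by rw [Nat.card_congr (subgroupOfEquivOfLe hR'H).toEquiv, hR'c])
    have h6 : (h : S) * x * (h : S)⁻¹ ∈ R' := hh ⟨⟨x, hxH⟩, (mem_subgroupOf.2 (mem_zpowers x)), rfl⟩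
    have h7 : (g * (h : S)) * x * (g * (h : S))⁻¹ ∈ R := by
      obtain ⟨j, hj⟩ := mem_zpowers_iff.1 h6
      rw [mem_zpowers_iff]
      refine ⟨j, ?_⟩
      have h8 : (g⁻¹ * x * g) ^ j = g⁻¹ * x ^ j * g := by
        have := conj_zpow (i := j) (a := g⁻¹) (b := x)
        rw [inv_inv] at this
        exact this
      rw [h8] at hj
      calc x ^ j = g * (g⁻¹ * x ^ j * g) * g⁻¹ := by group
        _ = (g * (h : S)) * x * (g * (h : S))⁻¹ := by rw [hj]; group
    have h9 : g * (h : S) ∈ M := by
      rw [hM, ← conj_eq_iff]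
      apply eq_of_le_of_card_ge
      · rintro _ ⟨z, hz, rfl⟩
        obtain ⟨j, rfl⟩ := mem_zpowers_iff.1 hz
        change (g * (h : S)) * x ^ j * (g * (h : S))⁻¹ ∈ R
        rw [← conj_zpow]
        exact zpow_mem h7 j
      · rw [card_map_of_injective (MulAut.conj _).injective]
    refine ⟨⟨g * (h : S), h9⟩, ?_⟩
    change (((g * (h : S)) * 1 : S) : S ⧸ H) = (g : S)
    apply QuotientGroup.eq.2
    have h10 : (g * (h : S) * 1)⁻¹ * g = (h : S)⁻¹ := by group
    rw [h10]
    exact inv_mem h.2
  have hfix' : orbit M ((1 : S) : S ⧸ H) ⊆ fixedBy (S ⧸ H) x := by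
    rintro _ ⟨⟨m, hm⟩, rfl⟩
    change ((x * (m * 1) : S) : S ⧸ H) = ((m * 1 : S) : S ⧸ H)
    symm
    apply QuotientGroup.eq.2
    have h3 : (m * 1)⁻¹ * (x * (m * 1)) = m⁻¹ * x * m := by group
    rw [h3]
    apply hRH
    have h4 := (mem_normalizer_iff.1 (inv_mem hm) x).1 (mem_zpowers x)
    rwa [inv_inv] at h4
  have heq : fixedBy (S ⧸ H) x = orbit M ((1 : S) : S ⧸ H) := Set.Subset.antisymm hfix hfix'
  have h4 : Nat.card (orbit M ((1 : S) : S ⧸ H)) * Nat.card (stabilizer M ((1 : S) : S ⧸ H)) = Nat.card M := by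
    rw [Nat.card_congr (orbitEquivQuotientStabilizer M ((1 : S) : S ⧸ H)), mul_comm]
    exact card_mul_index (stabilizer M ((1 : S) : S ⧸ H))
  have h5 : Nat.card (stabilizer M ((1 : S) : S ⧸ H)) = Nat.card ↥(M ⊓ H) := by
    have h6 : (stabilizer M ((1 : S) : S ⧸ H)).map M.subtype = M ⊓ H := by
      ext z
      rw [mem_map, mem_inf]
      constructor
      · rintro ⟨w, hw, rfl⟩
        refine ⟨w.2, ?_⟩
        rw [mem_stabilizer_iff] at hw
        have h7 : (((w : S) * 1 : S) : S ⧸ H) = ((1 : S) : S ⧸ H) := hw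
        have h8 := QuotientGroup.eq.1 h7
        have h9 : ((w : S) * 1)⁻¹ * 1 = (w : S)⁻¹ := by group
        rw [h9] at h8
        have h10 := inv_mem h8
        rwa [inv_inv] at h10
      · rintro ⟨hz, hzH⟩
        refine ⟨⟨z, hz⟩, ?_, rfl⟩
        rw [mem_stabilizer_iff]
        change (((z : S) * 1 : S) : S ⧸ H) = ((1 : S) : S ⧸ H)
        apply QuotientGroup.eq.2
        have h9 : ((z : S) * 1)⁻¹ * 1 = (z : S)⁻¹ := by group
        rw [h9]
        exact inv_mem hzH
    rw [← h6, card_map_of_injective M.subtype_injective]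
  rw [heq, ← h5, h4]

end Cfsg.Agent.H438.Fpr.FixN
end
end

-- part: H438/Fpr/HNC
section
set_option linter.all false
open scoped Cfsg.Agent.FastGrp

/-!
# Fixed point ratios: `HN`, prime 7 (helper438)
-/

set_option autoImplicit false

namespace Cfsg.Agent.H438.Fpr.HN

open Subgroup MulAction Cfsg.Agent.H409 Cfsg.Agent.OrdDiv Cfsg.Agent.H940 Cfsg.Agent.H940.Eng Cfsg.Agent.H940.Eng.D
  Cfsg.Agent.H715.Fpr

/-! ### a subgroup of order 7 normalizing a 3-group without fixed points -/

section

variable {X : Type*} [Group X] [Finite X]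

theorem card_mod {r : ℕ} (hr : r.Prime) {R A : Subgroup X} (hR : Nat.card R = r) (hRA : R ≤ normalizer (A : Set X))
    (hC : A ⊓ centralizer (R : Set X) = ⊥) : Nat.card A ≡ 1 [MOD r] := by
  have := Fact.mk hr
  let _ : MulAction R A := {
    smul := fun a z => ⟨(a : X) * z * (a : X)⁻¹, (mem_normalizer_iff.1 (hRA a.2) z).1 z.2⟩
    one_smul := fun z => Subtype.ext (by show (1 : X) * z * (1 : X)⁻¹ = z; simp)
    mul_smul := fun a b z => Subtype.ext (by
      show ((a : X) * b) * z * ((a : X) * b)⁻¹ = a * (b * z * (b : X)⁻¹) * (a : X)⁻¹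
      group) }
  have hsm : ∀ (a : R) (z : A), ((a • z : A) : X) = (a : X) * z * (a : X)⁻¹ := fun _ _ => rfl
  have hRp : IsPGroup r R := IsPGroup.of_card (n := 1) (by rw [hR, pow_one])
  have hmod : Nat.card A ≡ Nat.card (MulAction.fixedPoints R A) [MOD r] := hRp.card_modEq_card_fixedPoints A
  have h1 : Nat.card (MulAction.fixedPoints R A) = 1 := by
    rw [Nat.card_eq_one_iff_unique]
    constructor
    · constructor
      intro a b
      have key : ∀ z : MulAction.fixedPoints R A, ((z : A) : X) = 1 := by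
        intro z
        have h3 : ((z : A) : X) ∈ A ⊓ centralizer (R : Set X) := by
          refine mem_inf.2 ⟨(z : A).2, ?_⟩
          rw [mem_centralizer_iff]
          intro a ha
          have h3 := congrArg Subtype.val (z.2 ⟨a, ha⟩)
          rw [hsm] at h3
          have h4 : a * ((z : A) : X) * a⁻¹ = ((z : A) : X) := h3
          calc a * ((z : A) : X) = a * ((z : A) : X) * a⁻¹ * a := by group
            _ = ((z : A) : X) * a := by rw [h4]
        rwa [hC, mem_bot] at h3
      exact Subtype.ext (Subtype.ext ((key a).trans (key b).symm))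
    · exact ⟨⟨1, fun a => Subtype.ext (by rw [hsm]; simp)⟩⟩
  rw [h1] at hmod
  exact hmod

/-- a 3-group of order `3 ^ 6` with a fixed point free automorphism of order 7 has exponent 3 -/
theorem exponent_three {R T : Subgroup X} (hR : Nat.card R = 7) (hT : Nat.card T = 3 ^ 6)
    (hRT : R ≤ normalizer (T : Set X)) (hC : T ⊓ centralizer (R : Set X) = ⊥) : ∀ g ∈ T, g ^ 3 = 1 := by
  have := Fact.mk Nat.prime_three
  have hTp : IsPGroup 3 T := IsPGroup.of_card hT
  have key : ∀ A : Subgroup X, A ≤ T → R ≤ normalizer (A : Set X) → A ≠ ⊥ → A = T := by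
    intro A hA hRA hA1
    have h1 := card_mod (by norm_num) hR hRA (le_bot_iff.1 (hC ▸ inf_le_inf_right _ hA))
    obtain ⟨k, hk⟩ := IsPGroup.iff_card.1 (hTp.to_le hA)
    have h2 : Nat.card A ∣ 3 ^ 6 := hT ▸ card_dvd_of_le hA
    rw [hk] at h1 h2
    have h3 : k ≤ 6 := (Nat.pow_dvd_pow_iff_le_right (by norm_num)).1 h2
    have h4 : k ≠ 0 := by
      rintro rfl
      rw [pow_zero] at hk
      exact hA1 (card_eq_one.1 hk)
    have h5 : k = 6 := by
      interval_cases k
      · exact absurd rfl h4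
      · exact absurd h1 (by decide)
      · exact absurd h1 (by decide)
      · exact absurd h1 (by decide)
      · exact absurd h1 (by decide)
      · exact absurd h1 (by decide)
      · rfl
    apply eq_of_le_of_card_ge hA
    rw [hT, hk, h5]
  -- the group is abelian
  have hT1 : 1 < Nat.card T := by rw [hT]; norm_num
  have : Nontrivial T := Finite.one_lt_card_iff_nontrivial.1 hT1
  have hcn : Nontrivial (center T) := hTp.center_nontrivial
  have hZ : (center T).map T.subtype = T := by
    apply key _ (map_subtype_le _)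
    · intro a ha
      rw [mem_normalizer_iff]
      have hsub : ∀ a ∈ R, ∀ z ∈ (center T).map T.subtype, a * z * a⁻¹ ∈ (center T).map T.subtype := by
        rintro a ha _ ⟨z, hz, rfl⟩
        have hn := mem_normalizer_iff.1 (hRT ha)
        refine ⟨⟨a * z * a⁻¹, (hn _).1 z.2⟩, ?_, rfl⟩
        rw [SetLike.mem_coe, mem_center_iff]
        intro w
        have hw : a⁻¹ * w * a ∈ T := by
          refine (hn _).2 ?_
          have h6 : a * (a⁻¹ * (w : X) * a) * a⁻¹ = w := by group
          rw [h6]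
          exact w.2
        have h7 := congrArg Subtype.val (mem_center_iff.1 hz ⟨_, hw⟩)
        have h8 : (a⁻¹ * (w : X) * a) * z = z * (a⁻¹ * (w : X) * a) := h7
        apply Subtype.ext
        show (w : X) * (a * z * a⁻¹) = (a * z * a⁻¹) * w
        calc (w : X) * (a * z * a⁻¹) = a * ((a⁻¹ * (w : X) * a) * z) * a⁻¹ := by group
          _ = a * (z * (a⁻¹ * (w : X) * a)) * a⁻¹ := by rw [h8]
          _ = (a * z * a⁻¹) * w := by group
      intro z
      refine ⟨hsub a ha z, fun h => ?_⟩
      have h9 := hsub a⁻¹ (inv_mem ha) _ h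
      have h10 : a⁻¹ * (a * z * a⁻¹) * a⁻¹⁻¹ = z := by group
      rwa [h10] at h9
    · intro h
      rw [map_eq_bot_iff_of_injective _ T.subtype_injective] at h
      rw [h] at hcn
      exact not_nontrivial _ hcn
  have hcomm : ∀ a ∈ T, ∀ b ∈ T, a * b = b * a := by
    intro a ha b hb
    rw [← hZ] at ha
    obtain ⟨z, hz, rfl⟩ := ha
    exact (congrArg Subtype.val (mem_center_iff.1 hz ⟨b, hb⟩)).symm
  -- the elements of order 3
  let Ω : Subgroup X := {
    carrier := {g | g ∈ T ∧ g ^ 3 = 1}
    mul_mem' := by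
      rintro a b ⟨ha, ha3⟩ ⟨hb, hb3⟩
      exact ⟨mul_mem ha hb, by rw [(show Commute a b from hcomm a ha b hb).mul_pow, ha3, hb3, one_mul]⟩
    one_mem' := ⟨one_mem _, one_pow _⟩
    inv_mem' := by
      rintro a ⟨ha, ha3⟩
      exact ⟨inv_mem ha, by rw [inv_pow, ha3, inv_one]⟩ }
  have hΩ : ∀ g, g ∈ Ω ↔ g ∈ T ∧ g ^ 3 = 1 := fun g => Iff.rfl
  have hΩT : Ω = T := by
    apply key
    · exact fun g hg => ((hΩ g).1 hg).1
    · intro a ha
      rw [mem_normalizer_iff]
      intro z
      rw [hΩ, hΩ]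
      have hn := mem_normalizer_iff.1 (hRT ha) z
      rw [hn, conj_pow]
      constructor
      · rintro ⟨h1, h2⟩
        exact ⟨h1, by rw [h2]; group⟩
      · rintro ⟨h1, h2⟩
        refine ⟨h1, ?_⟩
        calc z ^ 3 = a⁻¹ * (a * z ^ 3 * a⁻¹) * a := by group
          _ = 1 := by rw [h2]; group
    · intro h
      obtain ⟨g, hg⟩ := exists_prime_orderOf_dvd_card' (G := T) 3 (by rw [hT]; norm_num)
      have h1 : (g : X) ∈ Ω := (hΩ _).2 ⟨g.2, by rw [← Subgroup.coe_pow, ← hg, pow_orderOf_eq_one]; rfl⟩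
      rw [h, mem_bot] at h1
      have h2 : g = 1 := Subtype.ext h1
      rw [h2, orderOf_one] at hg
      norm_num at hg
  intro g hg
  rw [← hΩT] at hg
  exact ((hΩ g).1 hg).2

end

/-! ### no such 3-group in `HN` -/

theorem exists_nine : ∃ u : G, orderOf u = 9 := by
  have h0 : (Fin.cycleRange (8 : Fin 12)) ∈ alternatingGroup (Fin 12) := by
    rw [Equiv.Perm.mem_alternatingGroup]; decide +kernel
  refine ⟨Cfsg.Agent.CpAutHN.Alt.Φ ⟨Fin.cycleRange (8 : Fin 12), h0⟩, ?_⟩
  rw [orderOf_injective _ Cfsg.Agent.CpAutHN.Alt.Φ_inj, Subgroup.orderOf_mk]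
  have : Fact (Nat.Prime 3) := ⟨Nat.prime_three⟩
  exact orderOf_eq_prime_pow (p := 3) (n := 1) (by decide +kernel) (by decide +kernel)

theorem noT {R T : Subgroup G} (hR : Nat.card R = 7) (hT : Nat.card T = 3 ^ 6) (hRT : R ≤ normalizer (T : Set G))
    (hC : T ⊓ centralizer (R : Set G) = ⊥) : False := by
  have := Fact.mk Nat.prime_three
  have h1 := exponent_three hR hT hRT hC
  obtain ⟨u, hu⟩ := exists_nine
  have hfac : (Nat.card G).factorization 3 = 6 := by
    rw [card]
    apply le_antisymm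
    · by_contra h
      rw [not_le] at h
      have h1 := (Nat.prime_three.pow_dvd_iff_le_factorization (by decide)).2 h
      exact absurd h1 (by decide +kernel)
    · exact (Nat.prime_three.pow_dvd_iff_le_factorization (by decide)).1 (by decide +kernel)
  let S : Sylow 3 G := Sylow.ofCard T (by rw [hT, hfac])
  have hS : (S : Subgroup G) = T := rfl
  obtain ⟨Q, hQ⟩ := (IsPGroup.of_card (G := zpowers u) (p := 3) (n := 2)
    (by rw [Nat.card_zpowers, hu]; norm_num)).exists_le_sylow
  obtain ⟨g, hg⟩ := MulAction.exists_smul_eq G Q S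
  have h2 : g * u * g⁻¹ ∈ (S : Subgroup G) := by
    rw [← hg, Sylow.smul_def, Sylow.pointwise_smul_def]
    exact Subgroup.smul_mem_pointwise_smul u (MulAut.conj g) _ (hQ (mem_zpowers u))
  rw [hS] at h2
  have h3 := h1 _ h2
  have h4 : orderOf (g * u * g⁻¹) = 9 := by
    have h5 : g * u * g⁻¹ = MulAut.conj g u := by simp
    rw [h5, MulEquiv.orderOf_eq, hu]
  have h5 := orderOf_dvd_of_pow_eq_one h3
  rw [h4] at h5
  norm_num at h5

/-- a subgroup of order `2 ^ a 3 ^ 6 5 ^ 6 7` with `|N_H(R)|` prime to 3 does not exist -/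
theorem kill (B : Base) {H R : Subgroup G} (hR : Nat.card R = 7) (hRH : R ≤ H)
    (hN : Nat.card ↥(normalizer (R : Set G) ⊓ H) ∣ 28) (h3 : 3 ^ 6 ∣ Nat.card H) (h11 : ¬ 11 ∣ Nat.card H)
    (h19 : ¬ 19 ∣ Nat.card H) : False := by
  have hR' : Nat.card (R.subgroupOf H) = 7 := by rw [Nat.card_congr (subgroupOfEquivOfLe hRH).toEquiv, hR]
  have h2 : ¬ 7 ^ 2 ∣ Nat.card H := fun h => not_sq (r := 7) (by decide +kernel) (h.trans (card_subgroup_dvd_card H))
  obtain ⟨k, c, s, ν, t, e1, e2, e3, e4, e5, e6, e7, e8, e9, e10⟩ :=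
    StructQ.structQ (by norm_num : Nat.Prime 7) h2 (R.subgroupOf H) hR'
  -- the normalizer in `H`
  have hNH : Nat.card (normalizer ((R.subgroupOf H : Subgroup H) : Set H)) = Nat.card ↥(normalizer (R : Set G) ⊓ H) := by
    have h1 : (normalizer ((R.subgroupOf H : Subgroup H) : Set H)).map H.subtype = normalizer (R : Set G) ⊓ H := by
      ext y
      rw [mem_map, mem_inf]
      constructor
      · rintro ⟨z, hz, rfl⟩
        refine ⟨?_, z.2⟩
        rw [mem_normalizer_iff]
        intro w
        constructor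
        · intro hw
          have h2 := (mem_normalizer_iff.1 hz ⟨w, hRH hw⟩).1 (mem_subgroupOf.2 hw)
          exact mem_subgroupOf.1 h2
        · intro hw
          have h3 : H.subtype z * w * (H.subtype z)⁻¹ ∈ H := hRH hw
          have h4 : w ∈ H := by
            have h5 := mul_mem (mul_mem (inv_mem z.2) h3) z.2
            have h6 : (z : G)⁻¹ * (H.subtype z * w * (H.subtype z)⁻¹) * z = w := by
              show (z : G)⁻¹ * ((z : G) * w * (z : G)⁻¹) * z = w
              group
            rwa [h6] at h5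
          have h2 := (mem_normalizer_iff.1 hz ⟨w, h4⟩).2 (mem_subgroupOf.2 hw)
          exact mem_subgroupOf.1 h2
      · rintro ⟨hy, hyH⟩
        refine ⟨⟨y, hyH⟩, ?_, rfl⟩
        rw [mem_normalizer_iff]
        intro w
        exact mem_normalizer_iff.1 hy w
    rw [← h1, card_map_of_injective H.subtype_injective]
  rw [← hNH, e2] at hN
  have hc3 : ¬ 3 ∣ c := fun h => absurd ((h.trans ⟨ν * t, by ring⟩).trans hN) (by norm_num)
  have ht3 : ¬ 3 ∣ t := fun h => absurd ((h.trans ⟨c * ν, by ring⟩).trans hN) (by norm_num)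
  have hν : ν ∣ 28 := (Dvd.intro (c * t) (by ring)).trans hN
  have hk0 : k ≠ 0 := by
    rintro rfl
    rw [zero_mul, zero_mul] at e1
    exact absurd e1 Nat.card_pos.ne'
  obtain ⟨j, hj1, hj2, Q, hQ, hRQ⟩ := e9 3 Nat.prime_three
  have hj : j = 0 := by
    by_contra h
    exact hc3 ((dvd_pow_self 3 h).trans hj1)
  rw [hj, pow_zero] at hj2
  have hv6 : k.factorization 3 ≤ 6 := by
    by_contra h
    rw [not_le] at h
    have h1 := (Nat.prime_three.pow_dvd_iff_le_factorization hk0).2 h
    have h4 : 3 ^ 7 ∣ Nat.card G := h1.trans ((Dvd.intro (s * t) (by rw [e1]; ring)).trans (card_subgroup_dvd_card H))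
    rw [card] at h4
    exact absurd h4 (by decide +kernel)
  have hv : k.factorization 3 = 0 ∨ k.factorization 3 = 6 := by
    generalize k.factorization 3 = v at hj2 hv6
    interval_cases v
    · exact Or.inl rfl
    · exact absurd hj2 (by decide)
    · exact absurd hj2 (by decide)
    · exact absurd hj2 (by decide)
    · exact absurd hj2 (by decide)
    · exact absurd hj2 (by decide)
    · exact Or.inr rfl
  rcases hv with hv | hv
  · -- the simple factor
    have hk3 : ¬ 3 ∣ k := fun h => by
      have := (Nat.prime_three.dvd_iff_one_le_factorization hk0).1 h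
      omega
    have hs : 3 ^ 6 ∣ s := by
      have h1 : 3 ^ 6 ∣ k * (s * t) := by rw [← mul_assoc, ← e1]; exact h3
      have c1 : Nat.Coprime (3 ^ 6) k := Nat.Coprime.pow_left 6 ((Nat.Prime.coprime_iff_not_dvd Nat.prime_three).2 hk3)
      have c2 : Nat.Coprime (3 ^ 6) t := Nat.Coprime.pow_left 6 ((Nat.Prime.coprime_iff_not_dvd Nat.prime_three).2 ht3)
      exact c2.dvd_of_dvd_mul_right (c1.dvd_of_dvd_mul_left h1)
    rcases e10 with rfl | ⟨S, i1, i2, hS, hna, hSc⟩
    · norm_num at hs
    · have hsH : s ∣ Nat.card H := by rw [e1]; exact ⟨k * t, by ring⟩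
      have hsn : s ∣ n_hn := by rw [← card]; exact hsH.trans (card_subgroup_dvd_card H)
      have hso : s ∈ o_hn := by rw [← hSc]; exact ords_hn B S hS hna (by rw [hSc]; exact hsn)
      have hchk : (o_hn.all fun s => s % 3 ^ 6 != 0 || s % 11 == 0 || s % 19 == 0 || [1, 2, 4, 7, 14, 28].all fun ν =>
          s % ν != 0 || ν % 7 != 0 || (s / ν) % 7 != 1) = true := by decide +kernel
      rw [List.all_eq_true] at hchk
      have h4 := hchk s hso
      rw [Bool.or_eq_true, Bool.or_eq_true, Bool.or_eq_true, bne_iff_ne, beq_iff_eq, beq_iff_eq, List.all_eq_true] at h4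
      rcases h4 with ((h4 | h4) | h4) | h4
      · exact h4 (Nat.mod_eq_zero_of_dvd hs)
      · exact h11 ((Nat.dvd_of_mod_eq_zero h4).trans hsH)
      · exact h19 ((Nat.dvd_of_mod_eq_zero h4).trans hsH)
      · have hν' : ν ∈ [1, 2, 4, 7, 14, 28] := by
          have : ν ≤ 28 := Nat.le_of_dvd (by norm_num) hν
          interval_cases ν <;> first | decide | (exfalso; revert hν; decide)
        have h5 := h4 ν hν'
        rw [Bool.or_eq_true, Bool.or_eq_true, bne_iff_ne, bne_iff_ne, bne_iff_ne] at h5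
        rcases h5 with (h5 | h5) | h5
        · exact h5 (Nat.mod_eq_zero_of_dvd e7)
        · exact h5 (Nat.mod_eq_zero_of_dvd e6)
        · exact h5 e8
  · -- the 3-group
    rw [hv] at hQ
    refine noT hR (T := Q.map H.subtype) (by rw [card_map_of_injective H.subtype_injective, hQ]) ?_ ?_
    · intro a ha
      have h1 := mem_normalizer_iff.1 (hRQ (show (⟨a, hRH ha⟩ : H) ∈ R.subgroupOf H from mem_subgroupOf.2 ha))
      rw [mem_normalizer_iff]
      intro z
      constructor
      · rintro ⟨w, hw, rfl⟩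
        exact ⟨_, (h1 w).1 hw, rfl⟩
      · rintro ⟨w, hw, hw'⟩
        have h4 := (h1 ((⟨a, hRH ha⟩ : H)⁻¹ * w * ⟨a, hRH ha⟩)).2 (by
          have h5 : (⟨a, hRH ha⟩ : H) * ((⟨a, hRH ha⟩ : H)⁻¹ * w * ⟨a, hRH ha⟩) * (⟨a, hRH ha⟩ : H)⁻¹ = w := by group
          rw [h5]
          exact hw)
        refine ⟨_, h4, ?_⟩
        have h7 : (w : G) = a * z * a⁻¹ := hw'
        show a⁻¹ * (w : G) * a = z
        rw [h7]
        group
    · rw [eq_bot_iff]
      rintro _ ⟨⟨w, hw, rfl⟩, hwC⟩
      rw [mem_bot]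
      have h1 : orderOf w ∣ 3 ^ 6 := by rw [← hQ]; exact Subgroup.orderOf_dvd_natCard _ hw
      have h4 : orderOf w ∣ Nat.card (normalizer ((R.subgroupOf H : Subgroup H) : Set H)) := by
        apply Subgroup.orderOf_dvd_natCard
        refine centralizer_le_normalizer _ ?_
        rw [mem_centralizer_iff]
        intro z hz
        exact Subtype.ext (mem_centralizer_iff.1 hwC z (mem_subgroupOf.1 hz))
      rw [e2] at h4
      have h5 := Nat.dvd_gcd h1 (h4.trans hN)
      have h6 : Nat.gcd (3 ^ 6) 28 = 1 := by norm_num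
      rw [h6] at h5
      have h7 : w = 1 := orderOf_eq_one_iff.1 (Nat.dvd_one.1 h5)
      rw [h7]
      rfl

/-- the indices `209, 418, 836` -/
theorem special (B : Base) {H : Subgroup G} {a : ℕ} (ha : a ∣ 4) (hi : H.index = 209 * a) :
    ∃ x : G, (∃ k : ℕ, orderOf x = 7 ^ k) ∧ (7 + 1) * Nat.card (fixedBy (G ⧸ H) x) ≤ 1 * Nat.card (G ⧸ H) := by
  have h49 : ¬ 7 ^ 2 ∣ Nat.card G := not_sq (r := 7) (by decide +kernel)
  have hc := H.card_mul_index
  rw [hi, card] at hc
  have ha0 : a ≠ 0 := by rintro rfl; norm_num at ha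
  have hm : Nat.card H * a = 1306368000000 := by
    have h1 : 209 * (Nat.card H * a) = 209 * 1306368000000 := by
      rw [← (by decide +kernel : n_hn = 209 * 1306368000000), ← hc]; ring
    exact Nat.eq_of_mul_eq_mul_left (by norm_num) h1
  have ha4 : a = 1 ∨ a = 2 ∨ a = 4 := by
    have : a ≤ 4 := Nat.le_of_dvd (by norm_num) ha
    interval_cases a
    · exact absurd rfl ha0
    · exact Or.inl rfl
    · exact Or.inr (Or.inl rfl)
    · norm_num at ha
    · exact Or.inr (Or.inr rfl)
  have h7H : 7 ∣ Nat.card H := by rcases ha4 with rfl | rfl | rfl <;> omega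
  have h3H : 3 ^ 6 ∣ Nat.card H := by rcases ha4 with rfl | rfl | rfl <;> omega
  have h11H : ¬ 11 ∣ Nat.card H := by rcases ha4 with rfl | rfl | rfl <;> omega
  have h19H : ¬ 19 ∣ Nat.card H := by rcases ha4 with rfl | rfl | rfl <;> omega
  have := Fact.mk (by norm_num : Nat.Prime 7)
  obtain ⟨x', hx'⟩ := exists_prime_orderOf_dvd_card' (G := H) 7 h7H
  have hx : orderOf (x' : G) = 7 := by rw [Subgroup.orderOf_coe, hx']
  refine ⟨(x' : G), ⟨1, by rw [hx]; norm_num⟩, ?_⟩
  have h1 := FixN.fix_mul (by norm_num) h49 x'.2 hx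
  have hR : Nat.card (zpowers (x' : G)) = 7 := by rw [Nat.card_zpowers, hx]
  have h2 := fix_modEq (by norm_num) H hx
  rw [(cn7 hR).2] at h1
  rw [hi] at h2
  have hcard : Nat.card (G ⧸ H) = 209 * a := hi
  rw [hcard, one_mul]
  by_contra hlt
  rw [not_le] at hlt
  refine kill B hR (zpowers_le.2 x'.2) ?_ h3H h11H h19H
  have h7N : 7 ∣ Nat.card ↥(normalizer ((zpowers (x' : G) : Subgroup G) : Set G) ⊓ H) := by
    have h3 : Nat.card (zpowers (x' : G)) ∣ Nat.card ↥(normalizer ((zpowers (x' : G) : Subgroup G) : Set G) ⊓ H) :=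
      card_dvd_of_le (le_inf le_normalizer (zpowers_le.2 x'.2))
    rwa [hR] at h3
  generalize Nat.card ↥(normalizer ((zpowers (x' : G) : Subgroup G) : Set G) ⊓ H) = m at h1 h7N ⊢
  generalize Nat.card (fixedBy (G ⧸ H) (x' : G)) = f at h1 h2 hlt
  obtain ⟨b, rfl⟩ := h7N
  have h5 : f * b = 360 := by
    have : 7 * (f * b) = 7 * 360 := by rw [← h1.trans (by norm_num : 2520 = 7 * 360)]; ring
    exact Nat.eq_of_mul_eq_mul_left (by norm_num) this
  have h2' : f % 7 = (209 * a) % 7 := h2
  have hf : f = 90 * a := by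
    have hfd : f ∈ Nat.divisors 360 := Nat.mem_divisors.2 ⟨⟨b, h5.symm⟩, by norm_num⟩
    have hchk : ∀ f ∈ Nat.divisors 360, ∀ a ∈ [1, 2, 4], f % 7 = (209 * a) % 7 → 209 * a < 8 * f → f = 90 * a := by
      decide +kernel
    exact hchk f hfd a (by rcases ha4 with rfl | rfl | rfl <;> simp) h2' (by omega)
  have hab : a * b = 4 := by
    rw [hf] at h5
    have : 90 * (a * b) = 90 * 4 := by rw [← mul_assoc]; exact h5
    exact Nat.eq_of_mul_eq_mul_left (by norm_num) this
  have hb : b ∣ 4 := ⟨a, by rw [← hab]; ring⟩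
  exact Nat.mul_dvd_mul_left 7 hb

/-- the indices to be treated -/
def allow7 : List ℕ := [209, 418, 627, 836, 1254, 1672, 1881, 2508]

theorem row7 (B : Base) : FprRow 8 1 7 G := by
  have h49 : ¬ 7 ^ 2 ∣ Nat.card G := not_sq (r := 7) (by decide +kernel)
  refine row_of_small (ctx B) (D := ⟨7, [], [], [2520], []⟩) (K := 2880) (lb := 0) (allow := allow7) (bd := 0)
    ⟨by decide +kernel, by simp, by simp, by
      intro N' hN' R hR
      rw [List.mem_singleton.1 hN']
      exact (cn7 hR).2.le, by simp⟩ (by exact Cfsg.Agent.H715.Fpr.scheck_fast (by decide +kernel)) lb_zero fun H _ hm => ?_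
  have hchk : (allow7.all fun d => d == 209 || d == 418 || d == 836 || exactB 7 2520 d) = true := by decide +kernel
  rw [List.all_eq_true] at hchk
  have h1 := hchk _ hm
  rw [Bool.or_eq_true, Bool.or_eq_true, Bool.or_eq_true, beq_iff_eq, beq_iff_eq, beq_iff_eq] at h1
  rcases h1 with ((h1 | h1) | h1) | h1
  · exact special B (a := 1) (by norm_num) (by rw [h1])
  · exact special B (a := 2) (by norm_num) (by rw [h1])
  · exact special B (a := 4) (by norm_num) (by rw [h1])
  · refine fix_of_exactB (by norm_num) (by rw [card]; decide +kernel) h49 (LN := [2520])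
      (fun R hR => List.mem_singleton.2 (cn7 hR).2) ?_
    rw [List.all_eq_true]
    intro N hN
    rw [List.mem_singleton.1 hN]
    exact h1

/-- **the rows of `HN`** -/
theorem row (B : Base) {p : ℕ} (hp : p.Prime) (hd : p ∣ Nat.card G) : FprRow (p + 1) 1 p G := by
  have h1 := valid_mem v_hn hp (by rw [← card]; exact hd)
  simp only [l_hn, List.map_cons, List.map_nil, List.mem_cons, List.not_mem_nil, or_false] at h1
  rcases h1 with rfl | rfl | rfl | rfl | rfl | rfl
  · exact row2 B
  · exact row3 B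
  · exact row5 B
  · exact row7 B
  · exact row11 B
  · exact row19 B

universe u in
theorem rowIso (B : Base) {S : Type u} [Group S] (h : Cfsg.Spor.IsoHN S) {p : ℕ} (hp : p.Prime)
    (hd : p ∣ Nat.card S) : FprRow (p + 1) 1 p S := by
  obtain ⟨e⟩ := h
  exact (row B hp (by rw [← Nat.card_congr e.toEquiv]; exact hd)).of_mulEquiv hp e.symm

end Cfsg.Agent.H438.Fpr.HN

private theorem dce_91d4b8cd3e9b : _root_.True := by
  try have : _root_.True := by simp only [_root_.Cfsg.Agent.H940.Eng.D.l_hn.eq_1]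
  exact _root_.True.intro
end
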